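import Groth.Agent.Books.PtsGroup
import Mathlib.LinearAlgebra.TensorProduct.Basis
import Mathlib.RingTheory.FiniteStability

/-!
# Functions which are constant on geometric points are constant
-/

set_option autoImplicit false

universe u

open TensorProduct

namespace Groth.Agent.Sga3.H219.ConstPts

variable {k K A : Type u} [Field k] [Field K] [Algebra k K] [IsAlgClosed K] [CommRing A] [Algebra k A]

omit [IsAlgClosed K] in
/-- If `1 ⊗ a = c ⊗ 1` then `a` is a scalar. -/
theorem exists_eq_algebraMap {a : A} {c : K} (h : (1 : K) ⊗ₜ[k] a = c ⊗ₜ[k] (1 : A)) :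
    ∃ c₀ : k, a = algebraMap k A c₀ := by
  by_contra hcon
  have h1 : a ∉ Submodule.span k {(1 : A)} := by
    intro ha
    obtain ⟨c₀, hc⟩ := Submodule.mem_span_singleton.1 ha
    exact hcon ⟨c₀, by rw [← hc, Algebra.smul_def, mul_one]⟩
  obtain ⟨φ, hφ, hφ1⟩ := Submodule.exists_le_ker_of_notMem (K := k) h1
  have h2 : φ (1 : A) = 0 := hφ1 (Submodule.mem_span_singleton_self _)
  have h3 := congrArg (TensorProduct.rid k K ∘ (φ.lTensor K)) h
  simp only [Function.comp_apply, LinearMap.lTensor_tmul, TensorProduct.rid_tmul, h2, zero_smul] at h3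
  exact hφ (by simpa using h3)

/-- A function on an affine scheme of finite type, geometrically reduced, which is constant on the
geometric points is a constant. -/
theorem exists_of_const [Algebra.FiniteType k A] [IsReduced (K ⊗[k] A)] (a : A) (c : K)
    (h : ∀ v : A →ₐ[k] K, v a = c) : ∃ c₀ : k, a = algebraMap k A c₀ := by
  refine exists_eq_algebraMap (K := K) (c := c) ?_
  have : Algebra.FiniteType K (K ⊗[k] A) := inferInstance
  rw [← sub_eq_zero]
  apply Groth.Agent.Books.PtsGroup.eq_zero_of_forall_pt (k := K)
  intro g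
  rw [map_sub, sub_eq_zero]
  have h1 := h ((g.restrictScalars k).comp Algebra.TensorProduct.includeRight)
  have h2 : g (c ⊗ₜ[k] (1 : A)) = c := by
    have := g.commutes c
    simpa using this
  rw [h2]
  exact h1

end Groth.Agent.Sga3.H219.ConstPts
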