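import Groth.Agent.Sga3.H784.Conj
import Groth.Agent.Sga3C.GrpIrr
import Groth.Agent.FlatB.GeomRed
import Groth.Agent.Sga3B.RG.BcPt885
import Groth.Agent.Sga3B.BcSpec892
import Groth.Agent.Sga3B.Parab.EtHom
import Groth.Agent.Etcore.SmoothRed
import Groth.Agent.S3023
import Mathlib.AlgebraicGeometry.Morphisms.FlatMono

/-!
# The neutral component of a smooth algebraic group over a field and its affine quotient

* `exists_neutral` : the neutral component, an open and closed subgroup;
* `isDomain_tensor` : the affine quotients of smooth connected groups are geometrically integral;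
* `isSolvable_pt` : points of quotients of solvable groups;
* `exists_data` : everything together.
-/

set_option autoImplicit false

universe u

open CategoryTheory MonoidalCategory CartesianMonoidalCategory MonObj GrpObj AlgebraicGeometry
open TensorProduct
open Groth.Agent.Books.AffBridge Groth.Agent.Books.AffBridge2
open Groth.Agent.Books.AlgPts

namespace Groth.Agent.Sga3.H219.NeutralK

variable {k : Type u} [Field k]

lemma lfp_of_noetherian {X Y : Scheme.{u}} (f : X ⟶ Y)
    [IsLocallyNoetherian Y] [LocallyOfFiniteType f] : LocallyOfFinitePresentation f where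
  finitePresentation_appLE {U} hU {V} hV e := by
    have : IsNoetherianRing Γ(Y, U) := IsLocallyNoetherian.component_noetherian ⟨U, hU⟩
    exact RingHom.FinitePresentation.of_finiteType.1 (f.finiteType_appLE hU hV e)

/-- The neutral component of a smooth algebraic group. -/
theorem exists_neutral (G : Over (Spec (CommRingCat.of k))) [GrpObj G] [Smooth G.hom]
    [QuasiCompact G.hom] :
    ∃ (U : Over (Spec (CommRingCat.of k))) (_ : GrpObj U) (u : U ⟶ G), IsMonHom u ∧
      IsClosedImmersion u.left ∧ IsOpenImmersion u.left ∧ Smooth U.hom ∧ QuasiCompact U.hom ∧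
      ConnectedSpace U.left ∧ Set.range u.left = connectedComponent (pt η[G]) := by
  obtain ⟨U, _, u, hu, hcl, hfl, hr⟩ := S3023.result k G
  have hr' : Set.range u.left = connectedComponent (pt η[G]) := hr _
  have hlft : LocallyOfFiniteType G.hom := inferInstance
  have hN : IsLocallyNoetherian G.left := LocallyOfFiniteType.isLocallyNoetherian G.hom
  have hlfp : LocallyOfFinitePresentation u.left := lfp_of_noetherian u.left
  have hop : IsOpenImmersion u.left := IsOpenImmersion.of_flat_of_mono u.left
  have hsm : Smooth U.hom := by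
    rw [← Over.w u]
    infer_instance
  have hqc : QuasiCompact U.hom := by
    rw [← Over.w u]
    infer_instance
  refine ⟨U, inferInstance, u, hu, hcl, hop, hsm, hqc, ?_, hr'⟩
  have h1 : _root_.IsConnected (Set.range u.left) := by
    rw [hr']
    exact isConnected_connectedComponent
  have h2 : _root_.IsConnected (Set.univ : Set U.left) := by
    have h3 := (u.left.isEmbedding.isInducing.isPreconnected_image (s := (Set.univ : Set U.left))).1
      (by rw [Set.image_univ]; exact h1.2)
    refine ⟨?_, h3⟩
    obtain ⟨x, y, rfl⟩ := h1.1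
    exact ⟨y, trivial⟩
  exact connectedSpace_iff_univ.2 h2

/-- Affine quotients of smooth connected groups are geometrically integral. -/
theorem isDomain_tensor (K : Type u) [Field K] [Algebra k K] (U : Over (Spec (CommRingCat.of k)))
    [GrpObj U] [Smooth U.hom] [ConnectedSpace U.left] {C : Type u} [CommRing C] [HopfAlgebra k C]
    (q : U ⟶ SpecOver k C) [Surjective q.left] [Flat q.left] : IsDomain (K ⊗[k] C) := by
  let f : Spec (CommRingCat.of K) ⟶ Spec (CommRingCat.of k) :=
    Spec.map (CommRingCat.ofHom (algebraMap k K))
  have hlft : LocallyOfFiniteType U.hom := inferInstance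
  have : GrpObj (Over.mk U.hom) := inferInstanceAs (GrpObj U)
  have hgi := Sga3C.GrpIrr.geometricallyIrreducible_of_connectedSpace U.hom
  have hirr : IrreducibleSpace ↥(Limits.pullback U.hom f) := by
    have : GeometricallyIrreducible (Limits.pullback.snd U.hom f) := inferInstance
    exact GeometricallyIrreducible.irreducibleSpace_of_subsingleton (Limits.pullback.snd U.hom f)
  have hred : IsReduced (Limits.pullback U.hom f) :=
    Etcore.SmoothRed.isReduced_of_smooth (Limits.pullback.snd U.hom f)
  obtain ⟨e, he⟩ := Groth.Agent.Sga3B.BcSpec892.exists_iso k K C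
  have hI : IsIso e.hom.left := inferInstanceAs (IsIso ((Over.forget _).mapIso e).hom)
  let g : (Red.bc f U).left ⟶ (SpecOver K (K ⊗[k] C)).left :=
    ((Over.pullback f).map q).left ≫ e.hom.left
  have hpb := Sga3B.Parab.EtHom.isPullback_map f q
  have hs : Surjective ((Over.pullback f).map q).left := MorphismProperty.of_isPullback hpb inferInstance
  have hf : Flat ((Over.pullback f).map q).left := MorphismProperty.of_isPullback hpb inferInstance
  have hgs : Surjective g := inferInstance
  have hgf : Flat g := inferInstance
  have hred' : IsReduced (Red.bc f U).left := hred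
  have h1 : IsReduced (SpecOver K (K ⊗[k] C)).left :=
    FlatB.GeomRed.isReduced_of_flat_of_surjective g
  have hirr' : IrreducibleSpace (Red.bc f U).left := hirr
  have h2 : IrreducibleSpace (SpecOver K (K ⊗[k] C)).left :=
    g.surjective.irreducibleSpace g.continuous
  have h3 : IsIntegral (Spec (CommRingCat.of (K ⊗[k] C))) :=
    @isIntegral_of_irreducibleSpace_of_isReduced _ h1 h2
  exact affine_isIntegral_iff _ |>.1 h3

/-- Points with values in an algebraically closed field lift along surjective morphisms locally of
finite type. -/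
theorem exists_point_lift (K : Type u) [Field K] [IsAlgClosed K]
    {P U Q : Over (Spec (CommRingCat.of k))} [LocallyOfFiniteType U.hom]
    (p : P.left ≅ Spec (CommRingCat.of K)) (q : U ⟶ Q) [Surjective q.left]
    (y : P ⟶ Q) : ∃ x : P ⟶ U, x ≫ q = y := by
  have hlft : LocallyOfFiniteType (q.left ≫ Q.hom) := by
    rw [Over.w q]
    infer_instance
  have hq : LocallyOfFiniteType q.left := locallyOfFiniteType_of_comp q.left Q.hom
  let X : Over (Spec (CommRingCat.of K)) := Over.mk (Limits.pullback.snd q.left (p.inv ≫ y.left))
  have hX : LocallyOfFiniteType X.hom :=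
    inferInstanceAs (LocallyOfFiniteType (Limits.pullback.snd q.left (p.inv ≫ y.left)))
  have hXs : Surjective X.hom :=
    inferInstanceAs (Surjective (Limits.pullback.snd q.left (p.inv ≫ y.left)))
  have hne : (Set.univ : Set X.left).Nonempty := by
    obtain ⟨z, -⟩ := X.hom.surjective (IsLocalRing.closedPoint K)
    exact ⟨z, trivial⟩
  obtain ⟨x, -⟩ := exists_pt_mem hne isClosed_univ.isLocallyClosed
  have hx : x.left ≫ Limits.pullback.snd q.left (p.inv ≫ y.left) = 𝟙 _ := Over.w x
  have hxq : (p.hom ≫ x.left ≫ Limits.pullback.fst q.left (p.inv ≫ y.left)) ≫ q.left = y.left := by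
    rw [Category.assoc, Category.assoc, Limits.pullback.condition, reassoc_of% hx,
      Iso.hom_inv_id_assoc]
  refine ⟨Over.homMk (p.hom ≫ x.left ≫ Limits.pullback.fst q.left (p.inv ≫ y.left)) ?_, ?_⟩
  · rw [← Over.w q, ← Category.assoc, hxq, Over.w]
  · ext1
    exact hxq

open Sga3B.RG Sga3B.RG.BcPt in
/-- The points of a quotient of a subgroup of a solvable group form a solvable group. -/
theorem isSolvable_pt (K : Type u) [Field K] [IsAlgClosed K] [Algebra k K]
    {G U : Over (Spec (CommRingCat.of k))} [GrpObj G] [GrpObj U] (hsolv : Red.IsSolvableGrp G)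
    (u : U ⟶ G) [IsMonHom u] [IsClosedImmersion u.left] [LocallyOfFiniteType U.hom]
    {C : Type u} [CommRing C] [HopfAlgebra k C] [Algebra.FiniteType k C]
    (q : U ⟶ SpecOver k C) [IsMonHom q] [Surjective q.left] :
    Group.IsSolvable (Pt K (K ⊗[k] C)) := by
  let P : Over (Spec (CommRingCat.of k)) := SpecOver k K
  -- points of `G`
  obtain ⟨n, hn⟩ := hsolv
  have h1 : Group.IsSolvable (P ⟶ G) := ⟨⟨n, hn P⟩⟩
  have hmu : Mono u := Books.AlgPtsGrp.mono_of_isClosedImmersion u
  have h2 : Group.IsSolvable (P ⟶ U) := by
    refine Group.isSolvable_of_isSolvable_injective (f := MonoidHom.mk' (fun x : P ⟶ U => x ≫ u)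
      (fun x y => MonObj.mul_comp x y u)) ?_
    intro x y h
    exact (cancel_mono u).1 h
  have h3 : Group.IsSolvable (P ⟶ SpecOver k C) := by
    refine Group.isSolvable_of_surjective (f := MonoidHom.mk' (fun x : P ⟶ U => x ≫ q)
      (fun x y => MonObj.mul_comp x y q)) ?_
    intro y
    exact exists_point_lift K (Iso.refl _) q y
  let e : WithConv (C →ₐ[k] K) ≃* (P ⟶ SpecOver k C) := BrPts.rptEquiv k C K
  have h4 : Group.IsSolvable (WithConv (C →ₐ[k] K)) :=
    Group.isSolvable_of_isSolvable_injective (f := e.toMonoidHom) e.injective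
  exact Group.isSolvable_of_surjective (f := (ptL (K := k) (L := K) (A := C)).toMonoidHom)
    (ptL (K := k) (L := K) (A := C)).surjective

end Groth.Agent.Sga3.H219.NeutralK
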