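import Groth.Agent.Sga3.H219.Coact
import Groth.Agent.Sga3.H219.ConstPts
import Groth.Agent.Sga3.H219.NeutralK
import Groth.Agent.Sga3.H665.ActDesc
import Groth.Agent.Sga3.H784.NAMain
import Groth.Agent.Sga3.H530.Ru

/-!
# The scheme of maximal tori of a solvable group over a perfect field as a comodule algebra

Glue for S4134 (GEO).
-/

set_option autoImplicit false

universe u

open CategoryTheory MonoidalCategory CartesianMonoidalCategory MonObj GrpObj AlgebraicGeometry
open TensorProduct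
open Groth.Agent.Books.AffBridge Groth.Agent.Books.AffBridge2
open Groth.Agent.Books.AlgPts

namespace Groth.Agent.Sga3.H219.GeoGlue

open Sga3B.RG

section algebra

variable (k : Type u) [Field k]

/-- An affine scheme over `k` is the spectrum of a `k`-algebra. -/
theorem exists_iso_specOver (X : Over (Spec (CommRingCat.of k))) [IsAffine X.left] :
    ∃ (A : Type u) (_ : CommRing A) (_ : Algebra k A), Nonempty (X ≅ SpecOver k A) := by
  let φ : CommRingCat.of k ⟶ Γ(X.left, ⊤) :=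
    (Scheme.ΓSpecIso (CommRingCat.of k)).inv ≫ X.hom.appTop
  let _ : Algebra k Γ(X.left, ⊤) := φ.hom.toAlgebra
  refine ⟨Γ(X.left, ⊤), inferInstance, inferInstance, ⟨Over.isoMk X.left.isoSpec ?_⟩⟩
  change X.left.isoSpec.hom ≫ Spec.map φ = X.hom
  have h := Scheme.isoSpec_hom_naturality X.hom
  rw [Spec.map_comp, ← Category.assoc, h, Category.assoc]
  have h2 : (Spec (CommRingCat.of k)).isoSpec.hom ≫ Spec.map (Scheme.ΓSpecIso (CommRingCat.of k)).inv = 𝟙 _ := by
    rw [Scheme.isoSpec_Spec_hom, ← Spec.map_comp, Iso.inv_hom_id, Spec.map_id]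
  rw [h2, Category.comp_id]

variable {k}

theorem smooth_of_iso {X : Over (Spec (CommRingCat.of k))} [Smooth X.hom] {A : Type u} [CommRing A]
    [Algebra k A] (e : X ≅ SpecOver k A) : Algebra.Smooth k A := by
  have h1 : Smooth (SpecOver k A).hom := by
    have hI : IsIso e.inv.left := inferInstanceAs (IsIso ((Over.forget _).mapIso e).inv)
    rw [← Over.w e.inv]
    infer_instance
  have h2 : Smooth (Spec.map (CommRingCat.ofHom (algebraMap k A))) := h1
  rw [HasRingHomProperty.Spec_iff (P := @Smooth)] at h2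
  exact RingHom.smooth_algebraMap.1 h2

end algebra

section action

variable {k : Type u} [Field k] {𝒯 : Over (Spec (CommRingCat.of k))}

/-- From a right action of `Spec H`, transitive on the geometric points, to a comodule algebra without
nonconstant fixed functions. -/
theorem exists_comodAlg_of_action (K : Type u) [Field K] [IsAlgClosed K] [Algebra k K]
    {H : Type u} [CommRing H] [HopfAlgebra k H] [IsAffine 𝒯.left] [Smooth 𝒯.hom]
    (r : 𝒯 ⊗ SpecOver k H ⟶ 𝒯)
    (hone : ∀ (Y : Over (Spec (CommRingCat.of k))) (v : Y ⟶ 𝒯),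
      CartesianMonoidalCategory.lift v (1 : Y ⟶ SpecOver k H) ≫ r = v)
    (hmul : ∀ (Y : Over (Spec (CommRingCat.of k))) (v : Y ⟶ 𝒯) (x y : Y ⟶ SpecOver k H),
      CartesianMonoidalCategory.lift (CartesianMonoidalCategory.lift v x ≫ r) y ≫ r =
        CartesianMonoidalCategory.lift v (x * y) ≫ r)
    (hne : Nonempty (SpecOver k K ⟶ 𝒯))
    (htrans : ∀ v w : SpecOver k K ⟶ 𝒯, ∃ x : SpecOver k K ⟶ SpecOver k H,
      CartesianMonoidalCategory.lift v x ≫ r = w) :
    ∃ (A : Type u) (_ : CommRing A) (_ : Algebra k A) (_ : HopfRep.Comod k H A)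
      (_ : 𝒯 ≅ SpecOver k A), Nontrivial A ∧ H814.UniStep.IsComodAlg k H A ∧
      ∀ a ∈ HopfRep.fixedPts k H A, ∃ c, a = algebraMap k A c := by
  obtain ⟨A, _, _, ⟨e⟩⟩ := exists_iso_specOver k 𝒯
  let rA : SpecOver k A ⊗ SpecOver k H ⟶ SpecOver k A := (e.inv ▷ _) ≫ r ≫ e.hom
  have hlift : ∀ (Y : Over (Spec (CommRingCat.of k))) (v : Y ⟶ SpecOver k A) (x : Y ⟶ SpecOver k H),
      CartesianMonoidalCategory.lift v x ≫ rA =
        (CartesianMonoidalCategory.lift (v ≫ e.inv) x ≫ r) ≫ e.hom := by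
    intro Y v x
    simp only [rA]
    rw [← Category.assoc, CartesianMonoidalCategory.lift_whiskerRight, Category.assoc]
  have he : ∀ {Y : Over (Spec (CommRingCat.of k))} (f : Y ⟶ 𝒯), (f ≫ e.hom) ≫ e.inv = f := by
    intro Y f
    rw [Category.assoc, Iso.hom_inv_id, Category.comp_id]
  have honeA : ∀ (Y : Over (Spec (CommRingCat.of k))) (v : Y ⟶ SpecOver k A),
      CartesianMonoidalCategory.lift v (1 : Y ⟶ SpecOver k H) ≫ rA = v := by
    intro Y v
    rw [hlift, hone, Category.assoc, Iso.inv_hom_id, Category.comp_id]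
  have hmulA : ∀ (Y : Over (Spec (CommRingCat.of k))) (v : Y ⟶ SpecOver k A)
      (x y : Y ⟶ SpecOver k H), CartesianMonoidalCategory.lift
        (CartesianMonoidalCategory.lift v x ≫ rA) y ≫ rA =
        CartesianMonoidalCategory.lift v (x * y) ≫ rA := by
    intro Y v x y
    rw [hlift, hlift, hlift, he, hmul]
  have hsm : Algebra.Smooth k A := smooth_of_iso e
  have hft : Algebra.FiniteType k A := inferInstance
  have hsmK : Algebra.Smooth K (K ⊗[k] A) := inferInstance
  have hred : _root_.IsReduced (K ⊗[k] A) := CalgB.SmoothReduced.isReduced_of_smooth K (K ⊗[k] A)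
  obtain ⟨v₀⟩ := hne
  let v₁ : A →ₐ[k] K := specPreimage k (v₀ ≫ e.hom)
  refine ⟨A, inferInstance, inferInstance, Coact.comod rA honeA hmulA, e, ?_,
    Coact.isComodAlg rA honeA hmulA, fun a ha => ?_⟩
  · exact v₁.toRingHom.domain_nontrivial
  · refine ConstPts.exists_of_const (K := K) a (v₁ a) fun w => ?_
    obtain ⟨x, hx⟩ := htrans v₀ (specMap k w ≫ e.inv)
    have ha' : Coact.rho k rA a = a ⊗ₜ[k] (1 : H) := ha
    refine Coact.apply_eq_of_fixed rA ha' v₁ w (specPreimage k x) ?_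
    rw [hlift, specMap_specPreimage, specMap_specPreimage, he, hx, Category.assoc, Iso.inv_hom_id,
      Category.comp_id]

end action

section main

open H665.Act H665.ActDesc

variable {k : Type u} [Field k] [PerfectField k] {G : Over (Spec (CommRingCat.of k))} [GrpObj G]
  [Smooth G.hom] [QuasiCompact G.hom]
  {𝒯 : Over (Spec (CommRingCat.of k))} {Tu : Over 𝒯.left} [GrpObj Tu] {iu : Tu ⟶ Red.bc 𝒯.hom G}

omit [PerfectField k] [QuasiCompact G.hom] in
/-- The scheme of maximal tori has a geometric point. -/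
theorem nonempty_point (K : Type u) [Field K] [IsAlgClosed K] [Algebra k K]
    (h𝒯 : SGA3x.RepresentsMaxTori G 𝒯 Tu iu) : Nonempty (SpecOver k K ⟶ 𝒯) := by
  let f : Spec (CommRingCat.of K) ⟶ Spec (CommRingCat.of k) :=
    Spec.map (CommRingCat.ofHom (algebraMap k K))
  have : LocallyOfFiniteType (Red.bc f G).hom :=
    inferInstanceAs (LocallyOfFiniteType (Limits.pullback.snd G.hom f))
  obtain ⟨T, _, i, hi⟩ := H784.NAMain.exists_isMaximalTorus (Red.bc f G)
  obtain ⟨v, ⟨hv, -⟩, -⟩ := h𝒯.2 (Spec (CommRingCat.of K)) f T i hi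
  exact ⟨Over.homMk v hv⟩

/-- **(GEO)** The scheme of maximal tori of a solvable group over a perfect field is a homogeneous space
of a unipotent group; `hbc`, `hU`, `hG3` are supplied by other files. -/
theorem exists_comodAlg_of (hsolv : Red.IsSolvableGrp G)
    (h𝒯 : SGA3x.RepresentsMaxTori G 𝒯 Tu iu) [IsAffine 𝒯.left] [Smooth 𝒯.hom]
    (hbc : TorBc G)
    (hU : ∀ (U : Over (Spec (CommRingCat.of k))) [GrpObj U] (u : U ⟶ G) [IsMonHom u]
      [IsClosedImmersion u.left] [IsOpenImmersion u.left],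
      Set.range u.left = connectedComponent (pt η[G]) →
      ∀ (Y : Over (Spec (CommRingCat.of k))) (v : Y ⟶ 𝒯) (g : Y ⟶ G),
        InTorus iu v g → ∃ g' : Y ⟶ U, g' ≫ u = g)
    (hG3 : ∀ (r : 𝒯 ⊗ G ⟶ 𝒯) (_ : IsAct iu r) (U : Over (Spec (CommRingCat.of k))) [GrpObj U]
      (u : U ⟶ G) [IsMonHom u] [IsClosedImmersion u.left] [IsOpenImmersion u.left] [Smooth U.hom]
      [QuasiCompact U.hom] [ConnectedSpace U.left]
      (_ : Set.range u.left = connectedComponent (pt η[G])) (C : Type u) [CommRing C]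
      [HopfAlgebra k C] [Algebra.FiniteType k C] (q : U ⟶ SpecOver k C) [IsMonHom q]
      [Surjective q.left] [Flat q.left]
      (_ : ∀ (X : Over (Spec (CommRingCat.of k))) (z g : X ⟶ U), z ≫ q = 1 → z * g = g * z)
      [IsDomain (AlgebraicClosure k ⊗[k] C)]
      (r' : 𝒯 ⊗ SpecOver k C ⟶ 𝒯) (_ : (𝒯 ◁ q) ≫ r' = (𝒯 ◁ u) ≫ r)
      (_ : ∀ (Y : Over (Spec (CommRingCat.of k))) (v : Y ⟶ 𝒯),
        CartesianMonoidalCategory.lift v (1 : Y ⟶ SpecOver k C) ≫ r' = v)
      (_ : ∀ (Y : Over (Spec (CommRingCat.of k))) (v : Y ⟶ 𝒯) (x y : Y ⟶ SpecOver k C),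
        CartesianMonoidalCategory.lift (CartesianMonoidalCategory.lift v x ≫ r') y ≫ r' =
          CartesianMonoidalCategory.lift v (x * y) ≫ r')
      (H : Type u) [CommRing H] [HopfAlgebra k H] (π : C →ₐc[k] H) (_ : Function.Surjective π)
      (_ : ∀ M : Subgroup (Pt (AlgebraicClosure k) (AlgebraicClosure k ⊗[k] C)), IsMaxTorusSub M →
        ∀ x, ∃ u m, m ∈ M ∧ x = u * m ∧ ∀ c ∈ RingHom.ker π, u (1 ⊗ₜ c) = 0)
      (v w : SpecOver k (AlgebraicClosure k) ⟶ 𝒯),
      ∃ x : SpecOver k (AlgebraicClosure k) ⟶ SpecOver k H,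
        CartesianMonoidalCategory.lift v x ≫ (𝒯 ◁ specMap k (π : C →ₐ[k] H)) ≫ r' = w) :
    ∃ (H : Type u) (_ : CommRing H) (_ : HopfAlgebra k H) (A : Type u) (_ : CommRing A)
      (_ : Algebra k A) (_ : HopfRep.Comod k H A) (_ : 𝒯 ≅ SpecOver k A),
      Algebra.FiniteType k H ∧ HopfRep.IsUnipotent k H ∧ IsDomain (AlgebraicClosure k ⊗[k] H) ∧
      Nontrivial A ∧ H814.UniStep.IsComodAlg k H A ∧
      ∀ a ∈ HopfRep.fixedPts k H A, ∃ c, a = algebraMap k A c := by
  let K : Type u := AlgebraicClosure k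
  obtain ⟨U, _, u, hu, hcl, hop, hsm, hqc, hconn, hr⟩ := NeutralK.exists_neutral G
  obtain ⟨C, _, _, q, hft, hq, hqs, hqf, hcen⟩ := H784.Conj.exists_quot U
  have hdom : IsDomain (K ⊗[k] C) := NeutralK.isDomain_tensor K U q
  have hsol : Group.IsSolvable (Pt K (K ⊗[k] C)) := NeutralK.isSolvable_pt K hsolv u q
  have hqqc : QuasiCompact q.left := by
    have h : QuasiCompact (q.left ≫ (SpecOver k C).hom) := by
      rw [Over.w q]
      exact hqc
    have h' : QuasiSeparated (SpecOver k C).hom := inferInstance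
    exact QuasiCompact.of_comp q.left (SpecOver k C).hom
  obtain ⟨H, _, _, π, hπ, hHft, hHu, hHd, hHM⟩ := H530.Ru.ru k K C hsol
  obtain ⟨r, hract⟩ := exists_isAct h𝒯 hbc
  obtain ⟨r', hr', hone, hmul⟩ := exists_desc_action_of_central h𝒯 hbc hract u q (hU U u hr) hcen
  have hmon : IsMonHom (specMap k (π : C →ₐ[k] H)) := isMonHom_specMap k π
  have hlift : ∀ (Y : Over (Spec (CommRingCat.of k))) (v : Y ⟶ 𝒯) (x : Y ⟶ SpecOver k H),
      CartesianMonoidalCategory.lift v x ≫ (𝒯 ◁ specMap k (π : C →ₐ[k] H)) ≫ r' =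
        CartesianMonoidalCategory.lift v (x ≫ specMap k (π : C →ₐ[k] H)) ≫ r' := by
    intro Y v x
    rw [← Category.assoc, CartesianMonoidalCategory.lift_whiskerLeft]
  obtain ⟨A, iA, iA', iC, e, h1, h2, h3⟩ := exists_comodAlg_of_action K
    ((𝒯 ◁ specMap k (π : C →ₐ[k] H)) ≫ r')
    (fun Y v => by rw [hlift, MonObj.one_comp, hone])
    (fun Y v x y => by rw [hlift, hlift, hlift, hmul, MonObj.mul_comp])
    (nonempty_point K h𝒯) (hG3 r hract U u hr C q hcen r' hr' hone hmul H π hπ hHM)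
  exact ⟨H, inferInstance, inferInstance, A, iA, iA', iC, e, hHft, hHu, hHd, h1, h2, h3⟩

end main

end Groth.Agent.Sga3.H219.GeoGlue
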