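import Groth.Agent.Books.AffBridge
import Groth.Agent.Sga3.H814.UniStep
import Mathlib.RingTheory.Bialgebra.Convolution

/-!
# Right actions of affine group schemes and comodule algebras

`r : Spec A × Spec H ⟶ Spec A` a right action over `Spec k`, gives a coaction `A → A ⊗ H`.
-/

set_option autoImplicit false

universe u

open CategoryTheory MonoidalCategory CartesianMonoidalCategory MonObj GrpObj AlgebraicGeometry
open TensorProduct
open Groth.Agent.Books.AffBridge

namespace Groth.Agent.Sga3.H219.Coact

noncomputable section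

variable (k : Type u) [Field k] {A H : Type u} [CommRing A] [Algebra k A] [CommRing H]
  [HopfAlgebra k H]

/-- The coaction map given by a morphism. -/
def rho (r : SpecOver k A ⊗ SpecOver k H ⟶ SpecOver k A) : A →ₐ[k] A ⊗[k] H :=
  specPreimage k (CartesianMonoidalCategory.lift (specMap k Algebra.TensorProduct.includeLeft)
    (specMap k Algebra.TensorProduct.includeRight) ≫ r)

variable {k}

lemma lift_comp {R : Type u} [CommRing R] [Algebra k R]
    (r : SpecOver k A ⊗ SpecOver k H ⟶ SpecOver k A) (v : A →ₐ[k] R) (x : H →ₐ[k] R) :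
    CartesianMonoidalCategory.lift (specMap k v) (specMap k x) ≫ r =
      specMap k ((Algebra.TensorProduct.lift v x (fun _ _ => Commute.all _ _)).comp (rho k r)) := by
  rw [specMap_comp, rho, specMap_specPreimage, ← Category.assoc, comp_lift, ← specMap_comp,
    ← specMap_comp]
  congr 3
  · ext a; simp
  · ext a; simp

variable (r : SpecOver k A ⊗ SpecOver k H ⟶ SpecOver k A)

/-- `id ⊗ Δ` is given by a convolution product. -/
lemma lift_includeRight_mul :
    (Algebra.TensorProduct.lift (Algebra.TensorProduct.includeLeft : A →ₐ[k] A ⊗[k] (H ⊗[k] H))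
      ((WithConv.toConv ((Algebra.TensorProduct.includeRight : _ →ₐ[k] A ⊗[k] (H ⊗[k] H)).comp
          (Algebra.TensorProduct.includeLeft : H →ₐ[k] H ⊗[k] H)) *
        WithConv.toConv ((Algebra.TensorProduct.includeRight : _ →ₐ[k] A ⊗[k] (H ⊗[k] H)).comp
          (Algebra.TensorProduct.includeRight : H →ₐ[k] H ⊗[k] H))).ofConv)
      (fun _ _ => Commute.all _ _)) =
    Algebra.TensorProduct.map (AlgHom.id k A) (Bialgebra.comulAlgHom k H) := by
  apply Algebra.TensorProduct.ext
  · ext a
    simp
  · ext h
    simp only [AlgHom.comp_apply, AlgHom.restrictScalars_apply, Algebra.TensorProduct.includeRight_apply,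
      Algebra.TensorProduct.lift_tmul, map_one, Algebra.TensorProduct.map_tmul,
      Bialgebra.comulAlgHom_apply]
    rw [AlgHom.convMul_apply, _root_.one_mul]
    have key : ∀ t : H ⊗[k] H, Algebra.TensorProduct.lift
        (((Algebra.TensorProduct.includeRight : _ →ₐ[k] A ⊗[k] (H ⊗[k] H)).comp
          (Algebra.TensorProduct.includeLeft : H →ₐ[k] H ⊗[k] H)))
        ((Algebra.TensorProduct.includeRight : _ →ₐ[k] A ⊗[k] (H ⊗[k] H)).comp
          (Algebra.TensorProduct.includeRight : H →ₐ[k] H ⊗[k] H)) (fun _ _ => Commute.all _ _) t =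
        (1 : A) ⊗ₜ[k] t := by
      intro t
      induction t with
      | zero => simp
      | add x y hx hy => rw [map_add, hx, hy, TensorProduct.tmul_add]
      | tmul x y => simp
    exact key _

theorem coassoc
    (hmul : ∀ (Y : Over (Spec (CommRingCat.of k))) (v : Y ⟶ SpecOver k A) (x y : Y ⟶ SpecOver k H),
      CartesianMonoidalCategory.lift (CartesianMonoidalCategory.lift v x ≫ r) y ≫ r =
        CartesianMonoidalCategory.lift v (x * y) ≫ r) (a : A) :
    (TensorProduct.assoc k A H H) ((rho k r).toLinearMap.rTensor H (rho k r a)) =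
      (CoalgebraStruct.comul (R := k) (A := H)).lTensor A (rho k r a) := by
  let R := A ⊗[k] (H ⊗[k] H)
  let v : A →ₐ[k] R := Algebra.TensorProduct.includeLeft
  let x : H →ₐ[k] R := (Algebra.TensorProduct.includeRight : _ →ₐ[k] R).comp
    (Algebra.TensorProduct.includeLeft : H →ₐ[k] H ⊗[k] H)
  let y : H →ₐ[k] R := (Algebra.TensorProduct.includeRight : _ →ₐ[k] R).comp
    (Algebra.TensorProduct.includeRight : H →ₐ[k] H ⊗[k] H)
  have h := hmul (SpecOver k R) (specMap k v) (specMap k x) (specMap k y)
  rw [lift_comp, lift_comp] at h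
  have hxy : specMap k x * specMap k y =
      specMap k (WithConv.toConv x * WithConv.toConv y : WithConv (H →ₐ[k] R)).ofConv := by
    rw [specMap_mul]
  rw [hxy, lift_comp] at h
  have h1 := specMap_injective k h
  have h2 := congrArg (fun f : A →ₐ[k] R => f a) h1
  simp only [AlgHom.comp_apply] at h2
  rw [show (Algebra.TensorProduct.lift v
      (WithConv.toConv x * WithConv.toConv y : WithConv (H →ₐ[k] R)).ofConv
      (fun _ _ => Commute.all _ _)) = _ from lift_includeRight_mul] at h2
  have e1 : (Algebra.TensorProduct.map (AlgHom.id k A) (Bialgebra.comulAlgHom k H)) (rho k r a) =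
      (CoalgebraStruct.comul (R := k) (A := H)).lTensor A (rho k r a) := rfl
  rw [e1] at h2
  rw [← h2]
  have key : ∀ t : A ⊗[k] H, (TensorProduct.assoc k A H H) ((rho k r).toLinearMap.rTensor H t) =
      (Algebra.TensorProduct.lift ((Algebra.TensorProduct.lift v x (fun _ _ => Commute.all _ _)).comp
        (rho k r)) y (fun _ _ => Commute.all _ _)) t := by
    intro t
    induction t with
    | zero => simp
    | add s t hs ht => rw [map_add, map_add, map_add, hs, ht]
    | tmul b h =>
      rw [LinearMap.rTensor_tmul, Algebra.TensorProduct.lift_tmul, AlgHom.comp_apply]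
      have key2 : ∀ s : A ⊗[k] H, (TensorProduct.assoc k A H H) (s ⊗ₜ[k] h) =
          (Algebra.TensorProduct.lift v x (fun _ _ => Commute.all _ _)) s * y h := by
        intro s
        induction s with
        | zero => simp
        | add s t hs ht => rw [TensorProduct.add_tmul, map_add, map_add, add_mul, hs, ht]
        | tmul c g =>
          change c ⊗ₜ[k] (g ⊗ₜ[k] h) =
            (c ⊗ₜ[k] ((1 : H) ⊗ₜ[k] (1 : H))) * ((1 : A) ⊗ₜ[k] (g ⊗ₜ[k] (1 : H))) *
              ((1 : A) ⊗ₜ[k] ((1 : H) ⊗ₜ[k] h))
          simp only [Algebra.TensorProduct.tmul_mul_tmul, _root_.mul_one, _root_.one_mul]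
      exact key2 _
  exact key _

theorem counit
    (hone : ∀ (Y : Over (Spec (CommRingCat.of k))) (v : Y ⟶ SpecOver k A),
      CartesianMonoidalCategory.lift v (1 : Y ⟶ SpecOver k H) ≫ r = v) (a : A) :
    (CoalgebraStruct.counit (R := k) (A := H)).lTensor A (rho k r a) = a ⊗ₜ[k] (1 : k) := by
  have h := hone (SpecOver k A) (specMap k (AlgHom.id k A))
  have h0 : (1 : SpecOver k A ⟶ SpecOver k H) =
      specMap k (1 : WithConv (H →ₐ[k] A)).ofConv := (specMap_one (k := k)).symm
  rw [h0, lift_comp] at h
  have h1 := specMap_injective k h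
  have h2 := congrArg (fun f : A →ₐ[k] A => f a) h1
  simp only [AlgHom.comp_apply, AlgHom.id_apply] at h2
  have key : ∀ t : A ⊗[k] H, TensorProduct.rid k A
      ((CoalgebraStruct.counit (R := k) (A := H)).lTensor A t) =
      (Algebra.TensorProduct.lift (AlgHom.id k A) (1 : WithConv (H →ₐ[k] A)).ofConv
        (fun _ _ => Commute.all _ _)) t := by
    intro t
    induction t with
    | zero => simp
    | add x y hx hy => rw [map_add, map_add, hx, hy, map_add]
    | tmul b h =>
      rw [LinearMap.lTensor_tmul, TensorProduct.rid_tmul, Algebra.TensorProduct.lift_tmul]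
      change _ = b * (1 : WithConv (H →ₐ[k] A)) h
      rw [AlgHom.convOne_apply, Algebra.smul_def, mul_comm]
  apply (TensorProduct.rid k A).injective
  rw [key, TensorProduct.rid_tmul, one_smul]
  exact h2

/-- The comodule structure. -/
@[reducible] def comod
    (hone : ∀ (Y : Over (Spec (CommRingCat.of k))) (v : Y ⟶ SpecOver k A),
      CartesianMonoidalCategory.lift v (1 : Y ⟶ SpecOver k H) ≫ r = v)
    (hmul : ∀ (Y : Over (Spec (CommRingCat.of k))) (v : Y ⟶ SpecOver k A) (x y : Y ⟶ SpecOver k H),
      CartesianMonoidalCategory.lift (CartesianMonoidalCategory.lift v x ≫ r) y ≫ r =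
        CartesianMonoidalCategory.lift v (x * y) ≫ r) : HopfRep.Comod k H A where
  coact := (rho k r).toLinearMap
  coassoc := by
    ext a
    exact coassoc r hmul a
  counit_comp := by
    ext a
    exact counit r hone a

theorem isComodAlg
    (hone : ∀ (Y : Over (Spec (CommRingCat.of k))) (v : Y ⟶ SpecOver k A),
      CartesianMonoidalCategory.lift v (1 : Y ⟶ SpecOver k H) ≫ r = v)
    (hmul : ∀ (Y : Over (Spec (CommRingCat.of k))) (v : Y ⟶ SpecOver k A) (x y : Y ⟶ SpecOver k H),
      CartesianMonoidalCategory.lift (CartesianMonoidalCategory.lift v x ≫ r) y ≫ r =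
        CartesianMonoidalCategory.lift v (x * y) ≫ r) :
    letI := comod r hone hmul
    H814.UniStep.IsComodAlg k H A :=
  letI := comod r hone hmul
  { coact_mul := fun a b => map_mul (rho k r) a b
    coact_one := map_one (rho k r) }

/-- A fixed function has the same value at `v` and `v · x`. -/
theorem apply_eq_of_fixed {R : Type u} [CommRing R] [Algebra k R] {a : A}
    (ha : rho k r a = a ⊗ₜ[k] (1 : H)) (v w : A →ₐ[k] R) (x : H →ₐ[k] R)
    (h : CartesianMonoidalCategory.lift (specMap k v) (specMap k x) ≫ r = specMap k w) : w a = v a := by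
  rw [lift_comp] at h
  have h1 := congrArg (fun f : A →ₐ[k] R => f a) (specMap_injective k h)
  simp only [AlgHom.comp_apply, ha, Algebra.TensorProduct.lift_tmul, map_one, _root_.mul_one] at h1
  exact h1.symm

end

end Groth.Agent.Sga3.H219.Coact
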